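import Mathlib
import Cfsg.Prelude.Def_TwoFusion

set_option autoImplicit false

/-!
# Project A2S (S2221): definitions

`GDecomp G` : the group `G` is a non-trivial internal direct product.
`SDecomp H` : the subgroup `H` of an ambient group is a non-trivial internal direct product
  (ambient form used by the statement S2221).
`signPi`, `evenKer` : for a finite family of groups `H j` with "sign" homomorphisms `ε j : H j →* ℤˣ`,
  the product sign on `∀ j, H j` and its kernel.
`sigmaSub`, `sumSub`, `wrSub` : product subgroups of permutation groups of sigma / sum types and the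
  wreath product with `Z_2` inside `Perm (β ⊕ β)`.
-/

namespace Cfsg.Agent.Lib.Helper9.A2S

open Equiv

/-- `G` is a non-trivial internal direct product. -/
def GDecomp (G : Type*) [Group G] : Prop :=
  ∃ A B : Subgroup G, A ≠ ⊥ ∧ B ≠ ⊥ ∧ (∀ a ∈ A, ∀ b ∈ B, a * b = b * a) ∧ A ⊓ B = ⊥ ∧ A ⊔ B = ⊤

/-- The subgroup `H` is a non-trivial internal direct product (ambient form). -/
def SDecomp {G : Type*} [Group G] (H : Subgroup G) : Prop :=
  ∃ S₁ S₂ : Subgroup G, S₁ ≠ ⊥ ∧ S₂ ≠ ⊥ ∧ Cfsg.IsInternalDirectProduct S₁ S₂ H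

/-- The product of the signs on a product of groups. -/
def signPi {J : Type*} [Fintype J] (H : J → Type*) [∀ j, Group (H j)] (ε : ∀ j, H j →* ℤˣ) :
    (∀ j, H j) →* ℤˣ :=
  ∏ j, (ε j).comp (Pi.evalMonoidHom H j)

/-- The even part of a product of groups with signs. -/
def evenKer {J : Type*} [Fintype J] (H : J → Type*) [∀ j, Group (H j)] (ε : ∀ j, H j →* ℤˣ) :
    Subgroup (∀ j, H j) :=
  (signPi H ε).ker

/-- The sign restricted to a subgroup of a permutation group. -/
def sgnOn {β : Type*} [Fintype β] [DecidableEq β] (T : Subgroup (Perm β)) : ↥T →* ℤˣ :=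
  Perm.sign.comp T.subtype

/-- The product of subgroups `T j ≤ Perm (β j)` inside `Perm (Σ j, β j)`. -/
def sigmaSub {J : Type*} (β : J → Type*) (T : ∀ j, Subgroup (Perm (β j))) :
    Subgroup (Perm (Σ j, β j)) :=
  (Subgroup.pi Set.univ T).map (Perm.sigmaCongrRightHom β)

/-- The product of subgroups `T ≤ Perm β`, `U ≤ Perm γ` inside `Perm (β ⊕ γ)`. -/
def sumSub {β γ : Type*} (T : Subgroup (Perm β)) (U : Subgroup (Perm γ)) :
    Subgroup (Perm (β ⊕ γ)) :=
  (T.prod U).map (Perm.sumCongrHom β γ)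

/-- The wreath product `T' ≀ Z_2` inside `Perm (β ⊕ β)`. -/
def wrSub {β : Type*} (T' : Subgroup (Perm β)) : Subgroup (Perm (β ⊕ β)) :=
  sumSub T' T' ⊔ Subgroup.zpowers (Equiv.sumComm β β : Perm (β ⊕ β))

/-- The set of binary digit positions of `m`, as a type. -/
abbrev Bits (m : ℕ) : Type := ↥(m.bitIndices.toFinset)

end Cfsg.Agent.Lib.Helper9.A2S
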