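import Mathlib
import Cfsg.Agent.Lib.Helper9.A2S.Defs
import Cfsg.Agent.Lib.Helper24.A2SAB5

set_option autoImplicit false

namespace Cfsg.Agent.Lib.Helper9.A2S

open Equiv

section AB6

variable {J : Type*} [Fintype J] [DecidableEq J] (H : J → Type*) [∀ j, Group (H j)]
  (ε : ∀ j, H j →* ℤˣ)

theorem ab6_signPi_apply (f : ∀ j, H j) : signPi H ε f = ∏ j, ε j (f j) := by
  unfold signPi
  rw [MonoidHom.finsetProd_apply]
  rfl

theorem ab6_signPi_mulSingle (i : J) (h : H i) : signPi H ε (Pi.mulSingle i h) = ε i h := by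
  rw [ab6_signPi_apply, Finset.prod_eq_single i]
  · rw [Pi.mulSingle_eq_same]
  · intro k _ hk
    rw [Pi.mulSingle_eq_of_ne hk, map_one]
  · intro h'
    exact absurd (Finset.mem_univ i) h'

theorem ab6_mem_evenKer (f : ∀ j, H j) : f ∈ evenKer H ε ↔ signPi H ε f = 1 := by
  unfold evenKer
  exact MonoidHom.mem_ker

/-- products in a commuting sup -/
theorem ab6_exists_mul {G : Type*} [Group G] (A B : Subgroup G)
    (hcomm : ∀ a ∈ A, ∀ b ∈ B, a * b = b * a) (f : G) (hf : f ∈ A ⊔ B) :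
    ∃ a ∈ A, ∃ b ∈ B, f = a * b := by
  have hc : ∀ (a : A) (b : B), Commute (A.subtype a) (B.subtype b) := fun a b => hcomm a a.2 b b.2
  have hr : (MonoidHom.noncommCoprod A.subtype B.subtype hc).range = A ⊔ B := by
    rw [MonoidHom.noncommCoprod_range, Subgroup.range_subtype, Subgroup.range_subtype]
  rw [← hr] at hf
  obtain ⟨⟨a, b⟩, hab⟩ := hf
  refine ⟨a, a.2, b, b.2, ?_⟩
  rw [← hab]
  rfl

/-- a central element has trivial sign and squares to one -/
theorem ab6_central (z : ∀ j, H j) (hz : ∀ j, ∀ c ∈ Subgroup.center (H j), c = 1 ∨ c = z j)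
    (hzε : ∀ j, ε j (z j) = 1) (j : J) (c : H j) (hc : c ∈ Subgroup.center (H j)) :
    ε j c = 1 ∧ c * c = 1 := by
  rcases hz j c hc with h | h
  · subst h
    exact ⟨map_one _, one_mul _⟩
  · refine ⟨by rw [h]; exact hzε j, ?_⟩
    rcases hz j (c * c) (Subgroup.mul_mem _ hc hc) with h2 | h2
    · exact h2
    · rw [← h] at h2
      have : c = 1 := by
        have := mul_left_cancel (a := c) (b := c) (c := 1) (by rw [h2, mul_one])
        exact this
      rw [this, one_mul]


/-- half of the core: if all components of `B` are central then `B = ⊥` -/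
theorem ab6_core (hJ : ∃ j j' : J, j ≠ j') (z y τ : ∀ j, H j)
    (hz : ∀ j, ∀ c ∈ Subgroup.center (H j), c = 1 ∨ c = z j)
    (hzε : ∀ j, ε j (z j) = 1) (hy : ∀ j, y j * y j = z j)
    (hτ : ∀ j, τ j * τ j = 1) (hτε : ∀ j, ε j (τ j) = -1)
    (A B : Subgroup (∀ j, H j)) (hcomm : ∀ a ∈ A, ∀ b ∈ B, a * b = b * a)
    (hinf : A ⊓ B = ⊥) (hsup : A ⊔ B = evenKer H ε) (hB : B ≠ ⊥)
    (hPB : ∀ i, ∀ b ∈ B, b i ∈ Subgroup.center (H i)) : False := by
  have key : ∀ i, ∀ c ∈ Subgroup.center (H i), Pi.mulSingle i c ∈ A := by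
    intro i c hc
    rcases hz i c hc with h | h
    · subst h
      rw [Pi.mulSingle_one]
      exact A.one_mem
    · obtain ⟨i', hi'⟩ : ∃ i' : J, i' ≠ i := by
        obtain ⟨j, j', hne⟩ := hJ
        by_cases hji : j = i
        · exact ⟨j', fun h' => hne (hji.trans h'.symm)⟩
        · exact ⟨j, hji⟩
      obtain ⟨u, huu, hucomm, huε⟩ : ∃ u : ∀ j, H j, u * u = 1 ∧
          Pi.mulSingle i (y i) * u = u * Pi.mulSingle i (y i) ∧
          signPi H ε u = ε i (y i) := by
        rcases Int.units_eq_one_or (ε i (y i)) with h1 | h1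
        · exact ⟨1, one_mul _, by rw [mul_one, one_mul], by rw [map_one, h1]⟩
        · refine ⟨Pi.mulSingle i' (τ i'), ?_, ?_, ?_⟩
          · rw [← Pi.mulSingle_mul, hτ, Pi.mulSingle_one]
          · exact (Pi.mulSingle_commute (Ne.symm hi') (y i) (τ i')).eq
          · rw [ab6_signPi_mulSingle, hτε, h1]
      have hwE : Pi.mulSingle i (y i) * u ∈ evenKer H ε := by
        rw [ab6_mem_evenKer, map_mul, ab6_signPi_mulSingle, huε]
        rcases Int.units_eq_one_or (ε i (y i)) with h1 | h1 <;> rw [h1] <;> decide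
      have hww : (Pi.mulSingle i (y i) * u) * (Pi.mulSingle i (y i) * u) = Pi.mulSingle i (z i) := by
        calc (Pi.mulSingle i (y i) * u) * (Pi.mulSingle i (y i) * u)
            = Pi.mulSingle i (y i) * (u * Pi.mulSingle i (y i)) * u := by group
          _ = Pi.mulSingle i (y i) * (Pi.mulSingle i (y i) * u) * u := by rw [hucomm]
          _ = (Pi.mulSingle i (y i) * Pi.mulSingle i (y i)) * (u * u) := by group
          _ = Pi.mulSingle i (z i) := by rw [huu, mul_one, ← Pi.mulSingle_mul, hy]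
      obtain ⟨a, ha, b, hb, hab⟩ := ab6_exists_mul A B hcomm _ (hsup ▸ hwE)
      have hbb : b * b = 1 :=
        funext fun k => (ab6_central H ε z hz hzε k (b k) (hPB k b hb)).2
      have hzaa : Pi.mulSingle i (z i) = a * a := by
        rw [← hww, hab]
        calc a * b * (a * b) = a * (b * a) * b := by group
          _ = a * (a * b) * b := by rw [hcomm a ha b hb]
          _ = a * a * (b * b) := by group
          _ = a * a := by rw [hbb, mul_one]
      rw [h, hzaa]
      exact A.mul_mem ha ha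
  have hle : B ≤ A := by
    have h1 : Subgroup.pi Set.univ (fun i => Subgroup.center (H i)) ≤ A := by
      rw [Subgroup.pi_le_iff]
      intro i
      rintro _ ⟨c, hc, rfl⟩
      exact key i c hc
    intro b hb
    apply h1
    intro i _
    exact hPB i b hb
  apply hB
  rw [eq_bot_iff, ← hinf]
  exact le_inf hle le_rfl

end AB6

/-- A2S-AB6 : the abstract core -/
theorem not_gdecomp_evenKer {J : Type*} [Fintype J] [DecidableEq J] (H : J → Type*)
    [∀ j, Group (H j)] (ε : ∀ j, H j →* ℤˣ) (hJ : ∃ j j' : J, j ≠ j')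
    (x z y τ : ∀ j, H j)
    (hx : ∀ j, ∃ k : ℕ, orderOf (x j) = 2 ^ k)
    (hC : ∀ j, ∀ w : H j, w * x j = x j * w → w ∈ Subgroup.zpowers (x j))
    (hz : ∀ j, ∀ c ∈ Subgroup.center (H j), c = 1 ∨ c = z j)
    (hzε : ∀ j, ε j (z j) = 1) (hy : ∀ j, y j * y j = z j)
    (hτ : ∀ j, τ j * τ j = 1) (hτε : ∀ j, ε j (τ j) = -1) :
    ¬ GDecomp ↥(evenKer H ε) := by
  rintro ⟨A0, B0, hA0, hB0, hcomm0, hinf0, hsup0⟩
  have hother : ∀ i : J, ∃ i' : J, i' ≠ i := by
    intro i
    obtain ⟨j, j', hne⟩ := hJ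
    by_cases hji : j = i
    · exact ⟨j', fun h' => hne (hji.trans h'.symm)⟩
    · exact ⟨j, hji⟩
  obtain ⟨A, hAdef⟩ : ∃ A, A = A0.map (evenKer H ε).subtype := ⟨_, rfl⟩
  obtain ⟨B, hBdef⟩ : ∃ B, B = B0.map (evenKer H ε).subtype := ⟨_, rfl⟩
  have hA : A ≠ ⊥ := by
    rw [hAdef]
    exact (Subgroup.map_eq_bot_iff_of_injective A0 (evenKer H ε).subtype_injective).not.mpr hA0
  have hB : B ≠ ⊥ := by
    rw [hBdef]
    exact (Subgroup.map_eq_bot_iff_of_injective B0 (evenKer H ε).subtype_injective).not.mpr hB0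
  have hcomm : ∀ a ∈ A, ∀ b ∈ B, a * b = b * a := by
    rw [hAdef, hBdef]
    rintro _ ⟨a, ha, rfl⟩ _ ⟨b, hb, rfl⟩
    rw [← map_mul, ← map_mul, hcomm0 a ha b hb]
  have hinf : A ⊓ B = ⊥ := by
    rw [hAdef, hBdef, ← Subgroup.map_inf A0 B0 _ (evenKer H ε).subtype_injective, hinf0,
      Subgroup.map_bot]
  have hsup : A ⊔ B = evenKer H ε := by
    rw [hAdef, hBdef, ← Subgroup.map_sup, hsup0, ← MonoidHom.range_eq_map, Subgroup.range_subtype]
  have hAE : A ≤ evenKer H ε := hsup ▸ le_sup_left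
  have hsurj : ∀ j, (evenKer H ε).map (Pi.evalMonoidHom H j) = ⊤ := by
    intro j
    rw [eq_top_iff]
    intro h _
    rcases Int.units_eq_one_or (ε j h) with h1 | h1
    · refine ⟨Pi.mulSingle j h, ?_, Pi.mulSingle_eq_same j h⟩
      rw [SetLike.mem_coe, ab6_mem_evenKer, ab6_signPi_mulSingle]
      exact h1
    · obtain ⟨j', hj'⟩ := hother j
      refine ⟨Pi.mulSingle j h * Pi.mulSingle j' (τ j'), ?_, ?_⟩
      · rw [SetLike.mem_coe, ab6_mem_evenKer, map_mul, ab6_signPi_mulSingle, ab6_signPi_mulSingle,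
          h1, hτε]
        decide
      · change (Pi.mulSingle j h * Pi.mulSingle j' (τ j')) j = h
        rw [Pi.mul_apply, Pi.mulSingle_eq_same, Pi.mulSingle_eq_of_ne (Ne.symm hj'), mul_one]
  have hdich : ∀ i, (∀ b ∈ B, b i ∈ Subgroup.center (H i)) ∨
      (∀ a ∈ A, a i ∈ Subgroup.center (H i)) := by
    intro i
    have h5 := comm_prod_top 2 (x i) (hx i) (hC i) (A.map (Pi.evalMonoidHom H i))
      (B.map (Pi.evalMonoidHom H i))
      (by
        rintro _ ⟨a, ha, rfl⟩ _ ⟨b, hb, rfl⟩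
        exact congrFun (hcomm a ha b hb) i)
      (by rw [← Subgroup.map_sup, hsup, hsurj i])
    rcases h5 with h | h
    · left
      intro b hb
      rw [Subgroup.mem_center_iff]
      intro g
      have hg : g ∈ A.map (Pi.evalMonoidHom H i) := by rw [h]; exact Subgroup.mem_top g
      obtain ⟨a, ha, rfl⟩ := hg
      exact congrFun (hcomm a ha b hb) i
    · right
      intro a ha
      rw [Subgroup.mem_center_iff]
      intro g
      have hg : g ∈ B.map (Pi.evalMonoidHom H i) := by rw [h]; exact Subgroup.mem_top g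
      obtain ⟨b, hb, rfl⟩ := hg
      exact (congrFun (hcomm a ha b hb) i).symm
  have hglob : (∀ i, ∀ b ∈ B, b i ∈ Subgroup.center (H i)) ∨
      (∀ i, ∀ a ∈ A, a i ∈ Subgroup.center (H i)) := by
    by_contra hcon
    rw [not_or] at hcon
    obtain ⟨hc1, hc2⟩ := hcon
    push Not at hc1 hc2
    obtain ⟨j, b0, hb0, hb0c⟩ := hc1
    obtain ⟨j', a0, ha0, ha0c⟩ := hc2
    have hPAj : ∀ a ∈ A, a j ∈ Subgroup.center (H j) := by
      rcases hdich j with h | h
      · exact absurd (h b0 hb0) hb0c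
      · exact h
    have hPBj' : ∀ b ∈ B, b j' ∈ Subgroup.center (H j') := by
      rcases hdich j' with h | h
      · exact h
      · exact absurd (h a0 ha0) ha0c
    have hjj' : j ≠ j' := by
      intro h
      subst h
      exact ha0c (hPAj a0 ha0)
    have hfE : Pi.mulSingle j' (τ j') * Pi.mulSingle j (τ j) ∈ evenKer H ε := by
      rw [ab6_mem_evenKer, map_mul, ab6_signPi_mulSingle, ab6_signPi_mulSingle, hτε, hτε]
      decide
    obtain ⟨a, ha, b, hb, hab⟩ := ab6_exists_mul A B hcomm _ (hsup ▸ hfE)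
    have hprod : signPi H ε a = 1 := (ab6_mem_evenKer H ε a).mp (hAE ha)
    have hcomp : ∀ k, ε k (a k) * ε k (b k) =
        ε k ((Pi.mulSingle j' (τ j') * Pi.mulSingle j (τ j) : ∀ j, H j) k) := by
      intro k
      rw [hab, Pi.mul_apply, map_mul]
    rw [ab6_signPi_apply, Finset.prod_eq_single j'] at hprod
    · have h1 := hcomp j'
      rw [(ab6_central H ε z hz hzε j' (b j') (hPBj' b hb)).1, mul_one, Pi.mul_apply,
        Pi.mulSingle_eq_same, Pi.mulSingle_eq_of_ne (Ne.symm hjj'), mul_one, hτε, hprod] at h1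
      exact absurd h1 (by decide)
    · intro k _ hk
      rcases hdich k with hkB | hkA
      · have hkj : k ≠ j := by
          intro h
          subst h
          exact hb0c (hkB b0 hb0)
        have h1 := hcomp k
        rw [(ab6_central H ε z hz hzε k (b k) (hkB b hb)).1, mul_one, Pi.mul_apply,
          Pi.mulSingle_eq_of_ne hk, Pi.mulSingle_eq_of_ne hkj, mul_one, map_one] at h1
        exact h1
      · exact (ab6_central H ε z hz hzε k (a k) (hkA a ha)).1
    · intro h'
      exact absurd (Finset.mem_univ j') h'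
  rcases hglob with h | h
  · exact ab6_core H ε hJ z y τ hz hzε hy hτ hτε A B hcomm hinf hsup hB h
  · exact ab6_core H ε hJ z y τ hz hzε hy hτ hτε B A (fun b hb a ha => (hcomm a ha b hb).symm)
      (by rw [inf_comm]; exact hinf) (by rw [sup_comm]; exact hsup) hA h

end Cfsg.Agent.Lib.Helper9.A2S
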