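import Mathlib
import Cfsg.Agent.Lib.Helper9.A2S.Defs
import Cfsg.Agent.Lib.Helper10.A2SAR12
import Cfsg.Agent.Lib.Helper10.A2SAR56
import Cfsg.Agent.Lib.Helper10.A2SPM3
import Cfsg.Agent.Lib.Helper10.A2SW2
import Cfsg.Agent.Lib.Helper25.A2SW3
import Cfsg.Agent.Lib.helper2.A2STR

set_option autoImplicit false

namespace Cfsg.Agent.Lib.Helper9.A2S

open Equiv

theorem w4_val_two_pow (j : ℕ) : padicValNat 2 (2 ^ j).factorial = 2 ^ j - 1 := by
  rw [padicValNat_two_factorial_bits, Nat.bitIndices_two_pow]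
  simp

theorem w4_arith (j : ℕ) : 2 * (2 ^ (2 ^ j - 1)) ^ 2 = 2 ^ (2 ^ (j + 1) - 1) := by
  have h1 : 1 ≤ 2 ^ j := Nat.one_le_two_pow
  rw [← pow_mul, ← pow_succ']
  congr 1
  rw [pow_succ]
  omega

/-- a `MulEquiv` maps the centre into the centre -/
theorem w4_map_center {G G' : Type*} [Group G] [Group G'] (e : G ≃* G') (c : G)
    (hc : c ∈ Subgroup.center G) : e c ∈ Subgroup.center G' := by
  rw [Subgroup.mem_center_iff] at hc ⊢
  intro g
  have := hc (e.symm g)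
  have h2 := congrArg e this
  rw [map_mul, map_mul, e.apply_symm_apply] at h2
  exact h2

/-- A2S-W4 : the centre of the even part of a Sylow 2-subgroup of `Perm α`, `|α| = 2 ^ i`, `i ≥ 3` -/
theorem center_even_sylow_two_pow {α : Type*} [Fintype α] [DecidableEq α] (i : ℕ)
    (hα : Fintype.card α = 2 ^ i) (hi : 3 ≤ i) (T : Sylow 2 (Perm α)) :
    ∃ z : ↥((T : Subgroup (Perm α)) ⊓ alternatingGroup α),
      ∀ c ∈ Subgroup.center ↥((T : Subgroup (Perm α)) ⊓ alternatingGroup α), c = 1 ∨ c = z := by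
  obtain ⟨j, rfl⟩ : ∃ j, i = j + 1 := ⟨i - 1, by omega⟩
  have hj : 2 ≤ j := by omega
  obtain ⟨T'⟩ : Nonempty (Sylow 2 (Perm (Fin (2 ^ j)))) := inferInstance
  have hcardT' : Nat.card ↥(T' : Subgroup (Perm (Fin (2 ^ j)))) = 2 ^ (2 ^ j - 1) := by
    rw [card_sylow_two_perm, Fintype.card_fin, w4_val_two_pow]
  have hcardγ : Fintype.card (Fin (2 ^ j) ⊕ Fin (2 ^ j)) = 2 ^ (j + 1) := by
    rw [Fintype.card_sum, Fintype.card_fin, pow_succ]
    omega
  have hcardK : Nat.card ↥(wrSub (T' : Subgroup (Perm (Fin (2 ^ j))))) =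
      2 ^ padicValNat 2 (Fintype.card (Fin (2 ^ j) ⊕ Fin (2 ^ j))).factorial := by
    rw [card_wrSub, hcardT', hcardγ, w4_val_two_pow, w4_arith]
  have hK : IsPGroup 2 ↥(wrSub (T' : Subgroup (Perm (Fin (2 ^ j))))) := IsPGroup.of_card hcardK
  obtain ⟨e⟩ := even_part_transfer (α := α) (γ := Fin (2 ^ j) ⊕ Fin (2 ^ j))
    (by rw [hcardγ, hα]) (wrSub (T' : Subgroup (Perm (Fin (2 ^ j))))) hK hcardK T
  obtain ⟨x, z, y, τ, -, -, hz, hzε, -, -, hτε⟩ := sylow_two_pow_data j (by simp) hj T'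
  have hz1 : (z : Perm (Fin (2 ^ j))) ≠ 1 := by
    intro h
    have hz1' : z = 1 := Subtype.ext h
    haveI : Nontrivial ↥(T' : Subgroup (Perm (Fin (2 ^ j)))) := by
      rw [← Finite.one_lt_card_iff_nontrivial, hcardT']
      have h1 : 2 ^ 1 ≤ 2 ^ j := Nat.pow_le_pow_right (by norm_num) (by omega)
      have h2 : 1 ≤ 2 ^ j - 1 := by omega
      calc 1 < 2 ^ 1 := by norm_num
        _ ≤ 2 ^ (2 ^ j - 1) := Nat.pow_le_pow_right (by norm_num) h2
    haveI := IsPGroup.center_nontrivial T'.isPGroup'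
    obtain ⟨c, hc⟩ := exists_ne (1 : Subgroup.center ↥(T' : Subgroup (Perm (Fin (2 ^ j)))))
    apply hc
    rcases hz c c.2 with h1 | h1
    · exact Subtype.ext h1
    · exact Subtype.ext (h1.trans hz1')
  have hzc : ∀ c ∈ (T' : Subgroup (Perm (Fin (2 ^ j)))),
      (∀ t ∈ (T' : Subgroup (Perm (Fin (2 ^ j)))), c * t = t * c) →
        c = 1 ∨ c = (z : Perm (Fin (2 ^ j))) := by
    intro c hc hcomm
    have hcen : (⟨c, hc⟩ : ↥(T' : Subgroup (Perm (Fin (2 ^ j))))) ∈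
        Subgroup.center ↥(T' : Subgroup (Perm (Fin (2 ^ j)))) := by
      rw [Subgroup.mem_center_iff]
      intro g
      exact Subtype.ext (hcomm g g.2).symm
    rcases hz _ hcen with h1 | h1
    · left; exact congrArg Subtype.val h1
    · right; exact congrArg Subtype.val h1
  have hW3 := center_even_wrSub (T' : Subgroup (Perm (Fin (2 ^ j))))
    (by rw [Fintype.card_fin]; exact (Nat.even_pow' (by omega)).mpr even_two)
    (z : Perm (Fin (2 ^ j))) (z : Perm (Fin (2 ^ j))) (τ : Perm (Fin (2 ^ j)))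
    hzc z.2 hz1 hzε τ.2 hτε
  have hcen : ∀ c ∈ Subgroup.center ↥((T : Subgroup (Perm α)) ⊓ alternatingGroup α),
      ((e c : ↥(wrSub (T' : Subgroup (Perm (Fin (2 ^ j)))) ⊓
          alternatingGroup (Fin (2 ^ j) ⊕ Fin (2 ^ j)))) : Perm (Fin (2 ^ j) ⊕ Fin (2 ^ j))) = 1 ∨
      ((e c : ↥(wrSub (T' : Subgroup (Perm (Fin (2 ^ j)))) ⊓
          alternatingGroup (Fin (2 ^ j) ⊕ Fin (2 ^ j)))) : Perm (Fin (2 ^ j) ⊕ Fin (2 ^ j))) =
        Perm.sumCongr (z : Perm (Fin (2 ^ j))) (z : Perm (Fin (2 ^ j))) := by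
    intro c hc
    have hec := w4_map_center e c hc
    rw [Subgroup.mem_center_iff] at hec
    apply hW3 _ (e c).2
    intro w hw
    exact (congrArg Subtype.val (hec ⟨w, hw⟩)).symm
  by_cases hmem : Perm.sumCongr (z : Perm (Fin (2 ^ j))) (z : Perm (Fin (2 ^ j))) ∈
      wrSub (T' : Subgroup (Perm (Fin (2 ^ j)))) ⊓ alternatingGroup (Fin (2 ^ j) ⊕ Fin (2 ^ j))
  · refine ⟨e.symm ⟨_, hmem⟩, ?_⟩
    intro c hc
    rcases hcen c hc with h | h
    · left
      apply e.injective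
      rw [map_one]
      exact Subtype.ext h
    · right
      apply e.injective
      rw [e.apply_symm_apply]
      exact Subtype.ext h
  · refine ⟨1, ?_⟩
    intro c hc
    rcases hcen c hc with h | h
    · left
      apply e.injective
      rw [map_one]
      exact Subtype.ext h
    · exfalso
      apply hmem
      rw [← h]
      exact (e c).2

end Cfsg.Agent.Lib.Helper9.A2S
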