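import Mathlib
import Cfsg.Prelude.Def_TwoFusion
import Cfsg.Agent.Lib.Helper9.A2S.Defs
import Cfsg.Agent.Lib.Helper1.A2SAB1
import Cfsg.Agent.Lib.Helper1.A2SAB2
import Cfsg.Agent.Lib.Helper1.A2SAB4
import Cfsg.Agent.Lib.Helper10.A2SAR12
import Cfsg.Agent.Lib.Helper10.A2SAR34
import Cfsg.Agent.Lib.Helper10.A2SAR56
import Cfsg.Agent.Lib.Helper10.A2SPM3
import Cfsg.Agent.Lib.Helper10.A2SW2
import Cfsg.Agent.Lib.Helper11.A2SPS1
import Cfsg.Agent.Lib.Helper11.A2SPS23
import Cfsg.Agent.Lib.Helper11.A2SPS4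
import Cfsg.Agent.Lib.Helper13.A2SN45
import Cfsg.Agent.Lib.Helper13.A2SPM1
import Cfsg.Agent.Lib.Helper24.A2SAB3
import Cfsg.Agent.Lib.Helper24.A2SAB5
import Cfsg.Agent.Lib.Helper24.A2SPM2
import Cfsg.Agent.Lib.Helper25.A2SW0
import Cfsg.Agent.Lib.Helper25.A2SW1
import Cfsg.Agent.Lib.Helper25.A2SW3
import Cfsg.Agent.Lib.helper2.A2SSA
import Cfsg.Agent.Lib.helper2.A2STR
import Cfsg.Agent.Lib.helper3.A2SPS5
import Cfsg.Agent.Lib.helper3.A2SPS6
import Cfsg.Agent.Lib.helper3.A2SPS7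
import Cfsg.Agent.Lib.Helper9.A2S.AB6
import Cfsg.Agent.Lib.Helper9.A2S.W4

set_option autoImplicit false

namespace Cfsg.Agent.Lib.Helper9.A2S

open Equiv

/-- a fixed Sylow 2-subgroup of `Perm (Fin (2 ^ j))` -/
noncomputable def stdT (j : ℕ) : Sylow 2 (Perm (Fin (2 ^ j))) := Classical.arbitrary _

theorem asm_val_two_pow (j : ℕ) : padicValNat 2 (2 ^ j).factorial = 2 ^ j - 1 := by
  rw [padicValNat_two_factorial_bits, Nat.bitIndices_two_pow]
  simp

theorem asm_card_stdT (j : ℕ) : Nat.card ↥(stdT j : Subgroup (Perm (Fin (2 ^ j)))) = 2 ^ (2 ^ j - 1) := by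
  rw [card_sylow_two_perm, Fintype.card_fin, asm_val_two_pow]

theorem asm_nontrivial_stdT (j : ℕ) (hj : 1 ≤ j) :
    Nontrivial ↥(stdT j : Subgroup (Perm (Fin (2 ^ j)))) := by
  rw [← Finite.one_lt_card_iff_nontrivial, asm_card_stdT]
  have h1 : 2 ^ 1 ≤ 2 ^ j := Nat.pow_le_pow_right (by norm_num) hj
  have h2 : 1 ≤ 2 ^ j - 1 := by omega
  calc 1 < 2 ^ 1 := by norm_num
    _ ≤ 2 ^ (2 ^ j - 1) := Nat.pow_le_pow_right (by norm_num) h2

/-- the transposition `(0 1)` of `Fin r`, `r ≥ 2` -/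
def tau01 (r : ℕ) (hr : 2 ≤ r) : Perm (Fin r) := Equiv.swap ⟨0, by omega⟩ ⟨1, by omega⟩

theorem asm_tau_sq (r : ℕ) (hr : 2 ≤ r) : tau01 r hr * tau01 r hr = 1 := by
  unfold tau01; exact Equiv.swap_mul_self _ _

theorem asm_tau_sign (r : ℕ) (hr : 2 ≤ r) : Perm.sign (tau01 r hr) = -1 := by
  unfold tau01
  apply Perm.sign_swap
  intro h
  have := congrArg Fin.val h
  simp at this

theorem asm_card_zpowers_tau (r : ℕ) (hr : 2 ≤ r) :
    Nat.card ↥(Subgroup.zpowers (tau01 r hr)) = 2 := by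
  rw [Nat.card_zpowers]
  apply orderOf_eq_prime
  · rw [pow_two]; exact asm_tau_sq r hr
  · intro h
    have := asm_tau_sign r hr
    rw [h, Perm.sign_one] at this
    exact absurd this (by decide)

/-- the reduction to one convenient 2-subgroup `K` of Sylow order -/
theorem reduction (n : ℕ) (hn : 2 ≤ n) {α : Type*} [Fintype α] [DecidableEq α]
    (hα : Fintype.card α = n) (K : Subgroup (Perm α)) (hK : IsPGroup 2 ↥K)
    (hcard : Nat.card ↥K = 2 ^ padicValNat 2 n.factorial)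
    (P : Sylow 2 ↥(alternatingGroup (Fin n))) :
    SDecomp (P : Subgroup ↥(alternatingGroup (Fin n))) ↔ GDecomp ↥(K ⊓ alternatingGroup α) := by
  rw [sdecomp_iff_gdecomp]
  have T : Sylow 2 (Perm (Fin n)) := Classical.arbitrary _
  obtain ⟨e⟩ := sylow_alt_equiv (by simpa using hn) P T
  rw [gdecomp_congr e]
  obtain ⟨e'⟩ := even_part_transfer (α := Fin n) (γ := α) (by simp [hα]) K hK (by rw [hα]; exact hcard) T
  rw [gdecomp_congr e']

/-! ### power of two -/

theorem asm_pow_two_hi (i r : ℕ) (hi : 2 ≤ i) (hr2 : 2 ≤ r) (hr4 : r < 4)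
    (P : Sylow 2 ↥(alternatingGroup (Fin (2 ^ i + r)))) :
    ¬ SDecomp (P : Subgroup ↥(alternatingGroup (Fin (2 ^ i + r)))) := by
  set T := stdT i with hT
  set K : Subgroup (Perm (Fin (2 ^ i) ⊕ Fin r)) :=
    sumSub (T : Subgroup (Perm (Fin (2 ^ i)))) (Subgroup.zpowers (tau01 r hr2)) with hKdef
  have hα : Fintype.card (Fin (2 ^ i) ⊕ Fin r) = 2 ^ i + r := by simp
  have h4 : 2 ^ i = 4 * 2 ^ (i - 2) := by
    obtain ⟨t, rfl⟩ := Nat.exists_eq_add_of_le hi
    rw [Nat.add_sub_cancel_left, pow_add]; norm_num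
  have hcard : Nat.card ↥K = 2 ^ padicValNat 2 (2 ^ i + r).factorial := by
    rw [hKdef, card_sumSub, asm_card_stdT, asm_card_zpowers_tau]
    have := padicValNat_two_factorial_add (2 ^ (i - 2)) r hr4
    rw [← h4, if_pos hr2, asm_val_two_pow] at this
    rw [this, pow_succ]
  have hK : IsPGroup 2 ↥K := IsPGroup.of_card hcard
  rw [reduction (2 ^ i + r) (by omega) hα K hK hcard P]
  obtain ⟨e⟩ := sumSub_swap_even_equiv (γ := Fin r) (T : Subgroup (Perm (Fin (2 ^ i))))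
    (tau01 r hr2) (asm_tau_sq r hr2) (asm_tau_sign r hr2)
  rw [gdecomp_congr e]
  obtain ⟨x, z, y, τ, -, -, hz, -⟩ := sylow_two_pow_data i (by simp) hi T
  exact not_gdecomp_of_center 2 T.isPGroup' z hz

theorem asm_pow_two_lo (i r : ℕ) (hi : 3 ≤ i) (hr1 : r ≤ 1)
    (P : Sylow 2 ↥(alternatingGroup (Fin (2 ^ i + r)))) :
    ¬ SDecomp (P : Subgroup ↥(alternatingGroup (Fin (2 ^ i + r)))) := by
  set T := stdT i with hT
  set K : Subgroup (Perm (Fin (2 ^ i) ⊕ Fin r)) :=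
    sumSub (T : Subgroup (Perm (Fin (2 ^ i)))) (⊥ : Subgroup (Perm (Fin r))) with hKdef
  have hα : Fintype.card (Fin (2 ^ i) ⊕ Fin r) = 2 ^ i + r := by simp
  have h4 : 2 ^ i = 4 * 2 ^ (i - 2) := by
    obtain ⟨t, rfl⟩ := Nat.exists_eq_add_of_le (show 2 ≤ i by omega)
    rw [Nat.add_sub_cancel_left, pow_add]; norm_num
  have hcard : Nat.card ↥K = 2 ^ padicValNat 2 (2 ^ i + r).factorial := by
    rw [hKdef, card_sumSub, asm_card_stdT, Subgroup.card_bot, mul_one]
    have := padicValNat_two_factorial_add (2 ^ (i - 2)) r (by omega)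
    rw [← h4, if_neg (by omega), asm_val_two_pow, add_zero] at this
    rw [this]
  have hK : IsPGroup 2 ↥K := IsPGroup.of_card hcard
  have h2n : 2 ≤ 2 ^ i + r := by
    have := Nat.one_lt_two_pow (show i ≠ 0 by omega)
    omega
  rw [reduction (2 ^ i + r) h2n hα K hK hcard P]
  obtain ⟨e⟩ := sumSub_bot_even_equiv (γ := Fin r) (T : Subgroup (Perm (Fin (2 ^ i))))
  rw [gdecomp_congr e]
  obtain ⟨z, hz⟩ := center_even_sylow_two_pow i (by simp) hi T
  have hp : IsPGroup 2 ↥((T : Subgroup (Perm (Fin (2 ^ i)))) ⊓ alternatingGroup (Fin (2 ^ i))) :=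
    T.isPGroup'.to_le inf_le_left
  exact not_gdecomp_of_center 2 hp z hz

/-! ### not a power of two -/

/-- the family of Sylow subgroups indexed by the binary digits of `m` -/
noncomputable def famT (m : ℕ) (j : Bits m) : Subgroup (Perm (Fin (2 ^ (j : ℕ)))) :=
  (stdT (j : ℕ) : Subgroup (Perm (Fin (2 ^ (j : ℕ)))))

theorem asm_card_sigma (m : ℕ) : Fintype.card (Σ j : Bits m, Fin (2 ^ (j : ℕ))) = m := by
  rw [Fintype.card_sigma]
  simp only [Fintype.card_fin]
  rw [Finset.sum_coe_sort m.bitIndices.toFinset (fun j => 2 ^ j)]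
  exact sum_two_pow_bits m

theorem asm_card_sigmaSub (m : ℕ) :
    Nat.card ↥(sigmaSub (fun j : Bits m => Fin (2 ^ (j : ℕ))) (famT m)) =
      2 ^ padicValNat 2 m.factorial := by
  rw [card_sigmaSub]
  have : ∀ j : Bits m, Nat.card ↥(famT m j) = 2 ^ (2 ^ (j : ℕ) - 1) := fun j => asm_card_stdT j
  simp only [this]
  rw [Finset.prod_pow_eq_pow_sum, padicValNat_two_factorial_bits,
    Finset.sum_coe_sort m.bitIndices.toFinset (fun j => 2 ^ j - 1)]

theorem asm_npow_hi (m k r : ℕ) (hm : m = 4 * k) (hk : 1 ≤ k) (hnp : ∀ t : ℕ, m ≠ 2 ^ t)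
    (hr2 : 2 ≤ r) (hr4 : r < 4)
    (P : Sylow 2 ↥(alternatingGroup (Fin (m + r)))) :
    SDecomp (P : Subgroup ↥(alternatingGroup (Fin (m + r)))) := by
  set β : Bits m → Type := fun j => Fin (2 ^ (j : ℕ)) with hβ
  set T₀ := sigmaSub β (famT m) with hT₀
  set K : Subgroup (Perm ((Σ j : Bits m, β j) ⊕ Fin r)) :=
    sumSub T₀ (Subgroup.zpowers (tau01 r hr2)) with hKdef
  have hα : Fintype.card ((Σ j : Bits m, β j) ⊕ Fin r) = m + r := by
    rw [Fintype.card_sum, Fintype.card_fin]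
    congr 1
    exact asm_card_sigma m
  have hcard : Nat.card ↥K = 2 ^ padicValNat 2 (m + r).factorial := by
    rw [hKdef, card_sumSub, asm_card_zpowers_tau, hT₀, asm_card_sigmaSub]
    have := padicValNat_two_factorial_add k r hr4
    rw [if_pos hr2, ← hm] at this
    rw [this, pow_succ]
  have hK : IsPGroup 2 ↥K := IsPGroup.of_card hcard
  rw [reduction (m + r) (by omega) hα K hK hcard P]
  obtain ⟨e⟩ := sumSub_swap_even_equiv (γ := Fin r) T₀
    (tau01 r hr2) (asm_tau_sq r hr2) (asm_tau_sign r hr2)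
  rw [gdecomp_congr e]
  obtain ⟨e'⟩ := sigmaSub_equiv_pi β (famT m)
  rw [gdecomp_congr e']
  obtain ⟨j, hj, j', hj', hne⟩ := exists_two_bits m (by omega) hnp
  have h2j := two_le_of_mem_bits_four_mul k j (hm ▸ hj)
  have h2j' := two_le_of_mem_bits_four_mul k j' (hm ▸ hj')
  exact gdecomp_pi (fun j : Bits m => ↥(famT m j)) ⟨j, hj⟩ ⟨j', hj'⟩
    (fun h => hne (congrArg Subtype.val h))
    (asm_nontrivial_stdT j (by omega)) (asm_nontrivial_stdT j' (by omega))

theorem asm_npow_lo (m k r : ℕ) (hm : m = 4 * k) (hk : 1 ≤ k) (hnp : ∀ t : ℕ, m ≠ 2 ^ t)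
    (hr1 : r ≤ 1)
    (P : Sylow 2 ↥(alternatingGroup (Fin (m + r)))) :
    ¬ SDecomp (P : Subgroup ↥(alternatingGroup (Fin (m + r)))) := by
  set β : Bits m → Type := fun j => Fin (2 ^ (j : ℕ)) with hβ
  set T₀ := sigmaSub β (famT m) with hT₀
  set K : Subgroup (Perm ((Σ j : Bits m, β j) ⊕ Fin r)) :=
    sumSub T₀ (⊥ : Subgroup (Perm (Fin r))) with hKdef
  have hα : Fintype.card ((Σ j : Bits m, β j) ⊕ Fin r) = m + r := by
    rw [Fintype.card_sum, Fintype.card_fin]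
    congr 1
    exact asm_card_sigma m
  have hcard : Nat.card ↥K = 2 ^ padicValNat 2 (m + r).factorial := by
    rw [hKdef, card_sumSub, Subgroup.card_bot, mul_one, hT₀, asm_card_sigmaSub]
    have := padicValNat_two_factorial_add k r (by omega)
    rw [if_neg (by omega), add_zero, ← hm] at this
    rw [this]
  have hK : IsPGroup 2 ↥K := IsPGroup.of_card hcard
  rw [reduction (m + r) (by omega) hα K hK hcard P]
  obtain ⟨e⟩ := sumSub_bot_even_equiv (γ := Fin r) T₀
  rw [gdecomp_congr e]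
  obtain ⟨e'⟩ := sigmaSub_even_equiv β (famT m)
  rw [gdecomp_congr e']
  obtain ⟨j, hj, j', hj', hne⟩ := exists_two_bits m (by omega) hnp
  have hdata : ∀ j : Bits m, ∃ x z y τ : ↥(famT m j),
      (∃ k : ℕ, orderOf x = 2 ^ k) ∧
      (∀ w : ↥(famT m j), w * x = x * w → w ∈ Subgroup.zpowers x) ∧
      (∀ c ∈ Subgroup.center ↥(famT m j), c = 1 ∨ c = z) ∧
      sgnOn (famT m j) z = 1 ∧ y * y = z ∧ τ * τ = 1 ∧ sgnOn (famT m j) τ = -1 := by
    intro j
    exact sylow_two_pow_data (j : ℕ) (by simp) (two_le_of_mem_bits_four_mul k j (hm ▸ j.2)) (stdT j)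
  choose x z y τ hx hC hz hzε hy hτ hτε using hdata
  exact not_gdecomp_evenKer (fun j : Bits m => ↥(famT m j)) (fun j => sgnOn (famT m j))
    ⟨⟨j, hj⟩, ⟨j', hj'⟩, fun h => hne (congrArg Subtype.val h)⟩ x z y τ hx hC hz hzε hy hτ hτε

/-! ### the theorem -/

theorem a2s_main (n : ℕ) (hn : 4 ≤ n) (P : Sylow 2 ↥(alternatingGroup (Fin n))) :
    SDecomp (P : Subgroup ↥(alternatingGroup (Fin n))) ↔
      (n = 4 ∨ n = 5 ∨ ((n % 4 = 2 ∨ n % 4 = 3) ∧ ∀ r : ℕ, 4 * (n / 4) ≠ 2 ^ r)) := by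
  by_cases h45 : n = 4 ∨ n = 5
  · constructor
    · intro _
      rcases h45 with h | h
      · exact Or.inl h
      · exact Or.inr (Or.inl h)
    · intro _
      exact sdecomp_small n h45 P
  · have hn6 : 6 ≤ n := by omega
    obtain ⟨k, r, hr4, rfl⟩ : ∃ k r : ℕ, r < 4 ∧ n = 4 * k + r :=
      ⟨n / 4, n % 4, Nat.mod_lt _ (by norm_num), (Nat.div_add_mod n 4).symm⟩
    have hk : 1 ≤ k := by omega
    have hdiv : (4 * k + r) / 4 = k := by omega
    have hmod : (4 * k + r) % 4 = r := by omega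
    rw [hdiv, hmod]
    by_cases hpow : ∃ i : ℕ, 4 * k = 2 ^ i
    · obtain ⟨i, hi⟩ := hpow
      have hi2 : 2 ≤ i := by
        by_contra hlt
        have : i = 0 ∨ i = 1 := by omega
        rcases this with rfl | rfl <;> omega
      have hrhs : ¬ ((4 * k + r = 4 ∨ 4 * k + r = 5 ∨ ((r = 2 ∨ r = 3) ∧ ∀ t : ℕ, 4 * k ≠ 2 ^ t))) := by
        rintro (h | h | ⟨-, h⟩)
        · omega
        · omega
        · exact h i hi
      have hlhs : ¬ SDecomp (P : Subgroup ↥(alternatingGroup (Fin (4 * k + r)))) := by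
        by_cases hr2 : 2 ≤ r
        · revert P
          rw [hi]
          intro P
          exact asm_pow_two_hi i r hi2 hr2 hr4 P
        · have hi3 : 3 ≤ i := by
            by_contra hlt
            have : i = 2 := by omega
            subst this
            omega
          revert P
          rw [hi]
          intro P
          exact asm_pow_two_lo i r hi3 (by omega) P
      exact ⟨fun h => absurd h hlhs, fun h => absurd h hrhs⟩
    · have hnp : ∀ t : ℕ, 4 * k ≠ 2 ^ t := fun t h => hpow ⟨t, h⟩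
      by_cases hr2 : 2 ≤ r
      · constructor
        · intro _
          refine Or.inr (Or.inr ⟨by omega, hnp⟩)
        · intro _
          exact asm_npow_hi (4 * k) k r rfl hk hnp hr2 hr4 P
      · constructor
        · intro h
          exact absurd h (asm_npow_lo (4 * k) k r rfl hk hnp (by omega) P)
        · rintro (h | h | ⟨h, -⟩)
          · omega
          · omega
          · omega

end Cfsg.Agent.Lib.Helper9.A2S
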